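import Groth.Agent.GrSect7.Semi
import Groth.Agent.GrSect6.Basic
import Mathlib.RingTheory.DedekindDomain.Basic
import Mathlib.RingTheory.Valuation.Integral

/-!
# The Gorenstein property of the section ring of a point
-/

set_option autoImplicit false
set_option linter.unusedSectionVars false
set_option linter.style.haveILetI false
set_option backward.isDefEq.respectTransparency false
set_option backward.isDefEq.respectTransparency.types false
set_option maxHeartbeats 1000000

universe u

open Polynomial FunFld WithZero W4c6gradedringsgw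

namespace Groth.Agent.GrSect7

open Groth.Agent.FFLib Groth.Agent.GrSect6

variable {k K : Type u} [Field k] [Field K] [Algebra k K]
variable (P : Place k K)

/-- The functions regular away from `P`. -/
def offRing : Subalgebra k K where
  carrier := {x | ∀ Q : Place k K, Q ≠ P → Q.1 x ≤ 1}
  mul_mem' {x y} hx hy Q hQ := by rw [map_mul]; exact mul_le_one' (hx Q hQ) (hy Q hQ)
  add_mem' {x y} hx hy Q hQ := (Q.1.map_add x y).trans (max_le (hx Q hQ) (hy Q hQ))
  algebraMap_mem' c Q _ := Q.2.1 c

theorem mem_L_single {n : ℤ} {x : K} :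
    x ∈ L (Finsupp.single P n : Divisor k K) ↔ P.1 x ≤ exp n ∧ x ∈ offRing P := by
  classical
  refine ⟨fun h => ⟨by simpa using h P, fun Q hQ => by simpa [hQ] using h Q⟩, fun h Q => ?_⟩
  rcases eq_or_ne Q P with rfl | hQ
  · simpa using h.1
  · simpa [hQ] using h.2 Q hQ

theorem exists_mem_L {x : K} (hx : x ∈ offRing P) : ∃ n : ℕ, x ∈ L (Finsupp.single P (n : ℤ)) := by
  by_cases h0 : x = 0
  · exact ⟨0, h0 ▸ zero_mem _⟩
  · refine ⟨(WithZero.log (P.1 x)).toNat, (mem_L_single P).2 ⟨?_, hx⟩⟩
    have hne : P.1 x ≠ 0 := (Valuation.ne_zero_iff _).2 h0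
    conv_lhs => rw [← exp_log hne]
    exact exp_le_exp.2 (Int.self_le_toNat _)

theorem mem_L_mono {n m : ℤ} (h : n ≤ m) {x : K} (hx : x ∈ L (Finsupp.single P n : Divisor k K)) :
    x ∈ L (Finsupp.single P m : Divisor k K) :=
  L_mono (Finsupp.single_le_single.2 h) hx

/-- The section ring as polynomials over the ring of functions regular away from `P`. -/
noncomputable def toOff : sectRing (Finsupp.single P 1 : Divisor k K) →+* (offRing P)[X] :=
  { toFun := fun p => (p : K[X]).toSubring (offRing P).toSubring fun a ha => by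
      obtain ⟨n, -, rfl⟩ := mem_coeffs_iff.1 ha
      exact ((mem_L_single P).1 ((mem_sectRing P).1 p.2 n)).2
    map_one' := by ext n; simp
    map_mul' := fun p q => by ext n; simp [coeff_mul]
    map_zero' := by ext n; simp
    map_add' := fun p q => by ext n; simp }

theorem toOff_coeff (p : sectRing (Finsupp.single P 1 : Divisor k K)) (n : ℕ) :
    (((toOff P p).coeff n : offRing P) : K) = (p : K[X]).coeff n :=
  Polynomial.coeff_toSubring (p : K[X]) (offRing P).toSubring fun a ha => by
    obtain ⟨m, -, rfl⟩ := mem_coeffs_iff.1 ha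
    exact ((mem_L_single P).1 ((mem_sectRing P).1 p.2 m)).2

theorem toOff_injective : Function.Injective (toOff P) := fun p q h => by
  refine Subtype.ext (Polynomial.ext fun n => ?_)
  rw [← toOff_coeff, ← toOff_coeff, h]

variable [IsAlgClosed k] (hK : IsFunctionField k K)

include hK in
theorem exists_conductor : ∃ c : ℕ, ∀ n, c ≤ n → n ∈ poleOrders P := by
  classical
  have hfin : {n : ℕ | 1 ≤ n ∧ IsGap P n}.Finite := by
    by_contra hinf
    obtain ⟨t, ht, hcard⟩ := (show {n : ℕ | 1 ≤ n ∧ IsGap P n}.Infinite from hinf).exists_subset_card_eq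
      (genus k K + 1)
    have h1 := ell_add_gaps hK (deg_eq_one hK.1 P) (t.sup id)
    have h2 := riemann hK.1 (Finsupp.single P ((t.sup id : ℕ) : ℤ))
    rw [Divisor.deg_single, deg_eq_one hK.1 P] at h2
    have h3 : t.card ≤ ((Finset.Icc 1 (t.sup id)).filter (IsGap P)).card := Finset.card_le_card fun n hn =>
      Finset.mem_filter.2 ⟨Finset.mem_Icc.2 ⟨(ht hn).1, Finset.le_sup (f := id) hn⟩, (ht hn).2⟩
    push_cast at h2
    omega
  obtain ⟨b, hb⟩ := hfin.bddAbove
  refine ⟨b + 1, fun n hn => (mem_poleOrders_iff hK (by omega)).2 fun hg => ?_⟩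
  have := hb ⟨(by omega : 1 ≤ n), hg⟩
  omega

/-- The semigroup of pole orders. -/
abbrev sg : AddSubmonoid ℕ := AddSubmonoid.closure (poleOrders P)

include hK in
theorem coe_sg : ((sg P : AddSubmonoid ℕ) : Set ℕ) = poleOrders P := closure_poleOrders hK

include hK in
theorem mem_sg {n : ℕ} : n ∈ sg P ↔ n ∈ poleOrders P := Set.ext_iff.1 (coe_sg P hK) n

/-- Leading coefficients, into the semigroup algebra. -/
noncomputable def lead : sectRing (Finsupp.single P 1 : Divisor k K) →+* sgAlg k (sg P) :=
  ((psi P hK).codRestrict (sgAlg k (sg P)) fun p n hn =>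
    psi_coeff_eq_zero_of_not_mem hK p fun h => hn ((mem_sg P hK).2 h)).toRingHom

theorem coe_lead (p : sectRing (Finsupp.single P 1 : Divisor k K)) : ((lead P hK p : sgAlg k (sg P)) : k[X]) = psi P hK p :=
  rfl

theorem lead_surjective : Function.Surjective (lead P hK) := by
  intro q
  choose f hf _hf0 using fun n (hn : n ∈ poleOrders P) => exists_psi_eq hK hn ((q : k[X]).coeff n)
  refine ⟨∑ n ∈ (q : k[X]).support.attach, f n.1 ((mem_sg P hK).1
    (not_not.1 fun h => mem_support_iff.1 n.2 (q.2 n.1 h))), Subtype.ext ?_⟩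
  rw [coe_lead, map_sum]
  simp only [hf]
  rw [Finset.sum_attach _ fun n => monomial n ((q : k[X]).coeff n)]
  exact (as_sum_support (q : k[X])).symm

/-- The element `T` of degree one. -/
noncomputable def tee : sectRing (Finsupp.single P 1 : Divisor k K) :=
  monom 1 1 (fun Q => by
    classical
    rw [map_one, ← exp_zero, exp_le_exp]
    by_cases h : P = Q <;> simp [Finsupp.single_apply, h])

omit [IsAlgClosed k] in
theorem coe_tee : ((tee P : sectRing (Finsupp.single P 1 : Divisor k K)) : K[X]) = X := monomial_one_one_eq_X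

omit [IsAlgClosed k] in
theorem tee_ne_zero : tee P ≠ 0 := fun h => X_ne_zero (R := K) (by rw [← coe_tee P, h]; rfl)

include hK in
theorem ker_psi' (hg : 1 ≤ genus k K) : RingHom.ker (psi P hK) = Ideal.span {tee P} :=
  ker_psi hK _ hg one_ne_zero (by rw [coe_tee, map_one, one_mul])

theorem ker_lead (hg : 1 ≤ genus k K) : RingHom.ker (lead P hK) = Ideal.span {tee P} := by
  rw [← ker_psi' P hK hg]
  ext p
  rw [RingHom.mem_ker, RingHom.mem_ker, ← coe_lead, ZeroMemClass.coe_eq_zero]

include hK in
theorem finiteType (hg : 1 ≤ genus k K) :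
    Algebra.FiniteType k (sectRing (Finsupp.single P 1 : Divisor k K)) := by
  classical
  obtain ⟨c, hc⟩ := exists_conductor P hK
  let R := sectRing (Finsupp.single P 1 : Divisor k K)
  have hlift : ∀ n, n ∈ poleOrders P → ∃ p : R, psi P hK p = monomial n 1 ∧ (p : K[X]).natDegree ≤ n := by
    intro n hn
    obtain ⟨p, hp, -⟩ := exists_psi_eq hK hn (1 : k)
    refine ⟨monom n _ ((mem_sectRing P).1 p.2 n), ?_, natDegree_monomial_le _⟩
    ext j
    rw [coeff_monomial]
    have hj := congrArg (fun q : k[X] => q.coeff j) hp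
    simp only [coeff_monomial] at hj
    rw [psi_coeff] at hj ⊢
    by_cases h : n = j
    · subst h
      rw [← hj]
      congr 2
      apply Subtype.ext
      rw [coe_scale_coeff, coe_scale_coeff]
      simp [monom]
    · rw [if_neg h]
      have : (scale P (monom n _ ((mem_sectRing P).1 p.2 n))).coeff j = 0 := by
        apply Subtype.ext
        rw [coe_scale_coeff]
        simp [monom, coeff_monomial, h]
      rw [this, map_zero, map_zero]
  choose f hf hfd using hlift
  let G : Set R := insert (tee P)
    ((fun n : ℕ => if hn : n ∈ poleOrders P then f n hn else 1) '' Set.Iic (2 * c + 1))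
  have hG : G.Finite := ((Set.finite_Iic _).image _).insert _
  let S := Algebra.adjoin k G
  have hS : ∀ n, n ∈ poleOrders P → ∃ p ∈ S, psi P hK p = monomial n 1 ∧ ((p : R) : K[X]).natDegree ≤ n := by
    intro n
    induction n using Nat.strong_induction_on with
    | _ n ih =>
      intro hn
      by_cases h : n ≤ 2 * c + 1
      · exact ⟨f n hn, Algebra.subset_adjoin (Or.inr ⟨n, h, dif_pos hn⟩), hf n hn, hfd n hn⟩
      · obtain ⟨p, hp, hp1, hp2⟩ := ih (c + 1) (by omega) (hc _ (by omega))
        obtain ⟨q, hq, hq1, hq2⟩ := ih (n - (c + 1)) (by omega) (hc _ (by omega))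
        refine ⟨p * q, mul_mem hp hq, ?_, ?_⟩
        · rw [map_mul, hp1, hq1, monomial_mul_monomial, one_mul, show c + 1 + (n - (c + 1)) = n by omega]
        · rw [Subalgebra.coe_mul]
          exact natDegree_mul_le.trans (by omega)
  choose g hgS hg1 hg2 using hS
  have key : ∀ (N : ℕ) (p : R), ((p : R) : K[X]).natDegree ≤ N → p ∈ S := by
    intro N
    induction N using Nat.strong_induction_on with
    | _ N ih =>
      intro p hp
      have hsupp : ∀ n ∈ (psi P hK p).support, n ∈ poleOrders P ∧ n ≤ N := fun n hn => by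
        rw [mem_support_iff] at hn
        refine ⟨by_contra fun h => hn (psi_coeff_eq_zero_of_not_mem hK p h), ?_⟩
        by_contra h
        refine hn ((psi_coeff_eq_zero P hK p n).2 ?_)
        rw [coeff_eq_zero_of_natDegree_lt (by omega)]
        exact zero_mem _
      let Q : R := ∑ n ∈ (psi P hK p).support.attach,
        (psi P hK p).coeff n.1 • g n.1 (hsupp n.1 n.2).1
      have hQS : Q ∈ S := sum_mem fun n _ => Subalgebra.smul_mem _ (hgS _ _) _
      have hQ1 : psi P hK Q = psi P hK p := by
        rw [map_sum]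
        simp only [map_smul, hg1, smul_monomial, smul_eq_mul, mul_one]
        rw [Finset.sum_attach _ fun n => monomial n ((psi P hK p).coeff n)]
        exact (as_sum_support (psi P hK p)).symm
      have hQ2 : (Q : K[X]).natDegree ≤ N := by
        rw [AddSubmonoidClass.coe_finsetSum]
        refine natDegree_sum_le_of_forall_le _ _ fun n _ => ?_
        rw [Subalgebra.coe_smul]
        exact (natDegree_smul_le _ _).trans ((hg2 _ _).trans (hsupp n.1 n.2).2)
      have hmem : p - Q ∈ Ideal.span {tee P} := by
        rw [← ker_psi' P hK hg, RingHom.mem_ker, map_sub, hQ1, sub_self]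
      obtain ⟨q, hq⟩ := Ideal.mem_span_singleton'.1 hmem
      have hqS : q ∈ S := by
        by_cases hq0 : q = 0
        · rw [hq0]; exact zero_mem _
        have hdeg : ((q * tee P : R) : K[X]).natDegree ≤ N := by
          rw [hq, Subalgebra.coe_sub]
          exact (natDegree_sub_le _ _).trans (max_le hp hQ2)
        rw [Subalgebra.coe_mul, coe_tee, natDegree_mul_X (fun h => hq0 (Subtype.ext h))] at hdeg
        exact ih _ (show ((q : R) : K[X]).natDegree < N by omega) q le_rfl
      have e : p = Q + q * tee P := by rw [hq]; ring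
      rw [e]
      exact add_mem hQS (mul_mem hqS (Algebra.subset_adjoin (Or.inl rfl)))
  exact ⟨Subalgebra.fg_def.2 ⟨G, hG, eq_top_iff.2 fun p _ => key _ p le_rfl⟩⟩

include hK in
theorem isNoetherianRing_sect (hg : 1 ≤ genus k K) :
    IsNoetherianRing (sectRing (Finsupp.single P 1 : Divisor k K)) :=
  haveI := finiteType P hK hg
  Algebra.FiniteType.isNoetherianRing k _

include hK in
theorem finite_mod {b : K} (hb : b ∈ offRing P) (hb0 : b ≠ 0) :
    ∃ N : ℕ, ∀ y ∈ offRing P, ∃ z ∈ offRing P, y - z * b ∈ L (Finsupp.single P (N : ℤ) : Divisor k K) := by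
  classical
  obtain ⟨c, hc⟩ := exists_conductor P hK
  have hex := exists_mem_L P hb
  let m := Nat.find hex
  have hbm : b ∈ L (Finsupp.single P (m : ℤ)) := Nat.find_spec hex
  have hβ : (psi P hK (monom m b hbm)).coeff m ≠ 0 := by
    rw [Ne, psi_coeff_eq_zero]
    intro h
    have h' : b ∈ L (Finsupp.single P ((m : ℤ) - 1)) := by simpa [monom] using h
    rcases Nat.eq_zero_or_pos m with h0 | h0
    · rw [h0] at h'
      exact hb0 (eq_zero_of_mem_L_neg_one hK (by simpa using h'))
    · exact Nat.find_min hex (show m - 1 < m by omega) (by rwa [show ((m - 1 : ℕ) : ℤ) = (m : ℤ) - 1 by omega])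
  refine ⟨c + m, fun y hy => ?_⟩
  obtain ⟨n, hn⟩ := exists_mem_L P hy
  induction n using Nat.strong_induction_on generalizing y with
  | _ n ih =>
    by_cases hle : n ≤ c + m
    · exact ⟨0, zero_mem _, by simpa using mem_L_mono P (show (n : ℤ) ≤ ((c + m : ℕ) : ℤ) by exact_mod_cast hle) hn⟩
    obtain ⟨q, hq, -⟩ := exists_psi_eq hK (hc (n - m) (by omega)) (1 : k)
    let q' := q * monom m b hbm
    have hq' : (psi P hK q').coeff n = (psi P hK (monom m b hbm)).coeff m := by
      rw [map_mul, hq, monomial_one_right_eq_X_pow]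
      conv_lhs => rw [show n = m + (n - m) by omega]
      rw [Nat.add_sub_cancel_left, coeff_X_pow_mul]
    have hq'' : (q' : K[X]).coeff n = (q : K[X]).coeff (n - m) * b := by
      show ((q : K[X]) * monomial m b).coeff n = _
      conv_lhs => rw [show n = (n - m) + m by omega]
      rw [coeff_mul_monomial]
    let α := (psi P hK (monom n y hn)).coeff n / (psi P hK (monom m b hbm)).coeff m
    have h0 : (psi P hK (monom n y hn - α • q')).coeff n = 0 := by
      rw [map_sub, map_smul, coeff_sub, coeff_smul, hq', smul_eq_mul, div_mul_cancel₀ _ hβ, sub_self]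
    rw [psi_coeff_eq_zero, Subalgebra.coe_sub, Subalgebra.coe_smul, coeff_sub, coeff_smul, hq''] at h0
    have h1 : y - (α • (q : K[X]).coeff (n - m)) * b ∈ L (Finsupp.single P ((n - 1 : ℕ) : ℤ)) := by
      rw [show ((n - 1 : ℕ) : ℤ) = (n : ℤ) - 1 by omega, smul_mul_assoc]
      simpa [monom] using h0
    have hz : α • (q : K[X]).coeff (n - m) ∈ offRing P :=
      Subalgebra.smul_mem _ ((mem_L_single P).1 ((mem_sectRing P).1 q.2 (n - m))).2 _
    obtain ⟨z, hz', hzy⟩ := ih (n - 1) (by omega) _ ((mem_L_single P).1 h1).2 h1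
    refine ⟨z + α • (q : K[X]).coeff (n - m), add_mem hz' hz, ?_⟩
    rw [add_mul]
    have e : y - (z * b + α • (q : K[X]).coeff (n - m) * b) = y - α • (q : K[X]).coeff (n - m) * b - z * b := by
      ring
    rw [e]
    exact hzy

include hK in
theorem isDedekindDomain_off (hg : 1 ≤ genus k K) : IsDedekindDomain (offRing P) := by
  classical
  haveI : IsNoetherianRing (offRing P) := by
    haveI := isNoetherianRing_sect P hK hg
    refine isNoetherianRing_of_surjective (sectRing (Finsupp.single P 1 : Divisor k K)) (offRing P)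
      ((Polynomial.evalRingHom 1).comp (toOff P)) fun x => ?_
    obtain ⟨n, hn⟩ := exists_mem_L P x.2
    refine ⟨monom n x hn, ?_⟩
    have e : toOff P (monom n x hn) = monomial n x := by
      ext j
      rw [toOff_coeff]
      simp only [monom, coeff_monomial]
      split_ifs <;> rfl
    simp [e]
  haveI : Ring.DimensionLEOne (offRing P) := ⟨fun {p} hp hprime => by
    obtain ⟨b, hbp, hb0⟩ := Submodule.exists_mem_ne_zero_of_ne_bot hp
    obtain ⟨N, hN⟩ := finite_mod P hK b.2 (fun h => hb0 (Subtype.ext h))
    haveI := L_finite hK.1 (Finsupp.single P (N : ℤ) : Divisor k K)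
    let j : L (Finsupp.single P (N : ℤ) : Divisor k K) →ₗ[k] offRing P :=
      { toFun := fun x => ⟨x.1, ((mem_L_single P).1 x.2).2⟩
        map_add' := fun _ _ => rfl
        map_smul' := fun _ _ => rfl }
    let f := (Ideal.Quotient.mkₐ k p).toLinearMap.comp j
    have hf : Function.Surjective f := fun z => by
      obtain ⟨y, rfl⟩ := Ideal.Quotient.mk_surjective z
      obtain ⟨z, hz, hzy⟩ := hN y y.2
      refine ⟨⟨_, hzy⟩, Ideal.Quotient.eq.2 ?_⟩
      have e : (⟨(y : K) - z * b, ((mem_L_single P).1 hzy).2⟩ : offRing P) - y = -(⟨z, hz⟩ * b) :=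
        Subtype.ext (by simp)
      rw [show j ⟨_, hzy⟩ = (⟨(y : K) - z * b, ((mem_L_single P).1 hzy).2⟩ : offRing P) from rfl, e]
      exact neg_mem (Ideal.mul_mem_left _ _ hbp)
    haveI : Module.Finite k (offRing P ⧸ p) := Module.Finite.of_surjective f hf
    haveI : Algebra.IsIntegral k (offRing P ⧸ p) := Algebra.IsIntegral.of_finite k _
    exact Ideal.Quotient.maximal_of_isField p (isField_of_isIntegral_of_isField'
      (R := k) (S := offRing P ⧸ p) (Field.toIsField k))⟩
  haveI : IsIntegrallyClosed (offRing P) := by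
    rw [isIntegrallyClosed_iff (FractionRing (offRing P))]
    intro x hx
    have hinj : Function.Injective (algebraMap (offRing P) K) := Subtype.val_injective
    let j : FractionRing (offRing P) →+* K := IsFractionRing.lift hinj
    obtain ⟨p, hpm, hp⟩ := hx
    have hjx : eval₂ (algebraMap (offRing P) K) (j x) p = 0 := by
      have h := congrArg j hp
      rw [hom_eval₂, map_zero] at h
      rwa [show j.comp (algebraMap (offRing P) (FractionRing (offRing P))) = algebraMap (offRing P) K from
        RingHom.ext fun a => IsFractionRing.lift_algebraMap hinj a] at h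
    have hmem : j x ∈ offRing P := fun Q hQ => by
      let φ : offRing P →+* Q.1.integer :=
        (algebraMap (offRing P) K).codRestrict Q.1.integer fun a => a.2 Q hQ
      refine (Valuation.Integers.mem_of_integral (Valuation.integer.integers Q.1)
        (⟨p.map φ, hpm.map _, ?_⟩ : IsIntegral Q.1.integer (j x)))
      rw [eval₂_map]
      exact hjx
    exact ⟨⟨j x, hmem⟩, j.injective (IsFractionRing.lift_algebraMap hinj _)⟩
  exact {}

include hK in
theorem gor_atPrime_of_tee (hg : 1 ≤ genus k K) (p : Ideal (sectRing (Finsupp.single P 1 : Divisor k K)))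
    [p.IsPrime] (hp : tee P ∉ p) : LocCoh.IsGorensteinLocalRing (Localization.AtPrime p) := by
  classical
  haveI := isDedekindDomain_off P hK hg
  haveI : LocCoh.IsGorensteinRing (offRing P)[X] := LC.gorensteinRing_of_isRegularRing _
  refine gor_atPrime_of_bir (toOff P) (toOff_injective P) (tee P) (fun b => ?_) p hp
  have htee : toOff P (tee P) = X := by
    ext j
    rw [toOff_coeff, coe_tee]
    simp [coeff_X, apply_ite]
  choose n hn using fun i : ℕ => exists_mem_L P (b.coeff i).2
  let N := b.support.sup n
  have hmem : (X ^ N * b.map (offRing P).toSubring.subtype) ∈ sectRing (Finsupp.single P 1 : Divisor k K) := by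
    rw [mem_sectRing]
    intro j
    rw [coeff_X_pow_mul']
    split_ifs with h
    · rw [coeff_map]
      by_cases h0 : b.coeff (j - N) = 0
      · rw [h0, map_zero]; exact zero_mem _
      · have hle : n (j - N) ≤ N := Finset.le_sup (f := n) (mem_support_iff.2 h0)
        exact mem_L_mono P (by omega) (hn (j - N))
    · exact zero_mem _
  refine ⟨N, ⟨_, hmem⟩, ?_⟩
  rw [htee]
  ext j
  rw [toOff_coeff]
  show (X ^ N * b.map (offRing P).toSubring.subtype).coeff j = _
  rw [coeff_X_pow_mul', coeff_X_pow_mul']
  split_ifs with h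
  · rw [coeff_map]; rfl
  · rfl

/-- **The section ring of a point is Gorenstein iff the Weierstrass semigroup is symmetric.** -/
theorem gorenstein_iff_symmetric (hK : IsFunctionField k K) (hg : 1 ≤ genus k K) :
    LocCoh.IsGorensteinRing (sectRing (Finsupp.single P 1 : Divisor k K)) ↔
      IsSymmetric (poleOrders P) := by
  haveI := isNoetherianRing_sect P hK hg
  obtain ⟨c, hc⟩ := exists_conductor P hK
  have hc' : ∀ n, c ≤ n → n ∈ sg P := fun n hn => (mem_sg P hK).2 (hc n hn)
  have hq := fun (q : Ideal (sgAlg k (sg P))) (_ : q.IsPrime) =>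
    gor_atPrime_iff_quot (lead P hK) (lead_surjective P hK) (tee_ne_zero P) (ker_lead P hK hg) q
  rw [← coe_sg P hK, ← gor_irr_iff_symmetric (k := k) hc']
  constructor
  · intro hG
    exact (hq _ inferInstance).1 (LocCoh.IsGorensteinRing.isGorensteinLocalRing_localization _)
  · intro h
    refine LC.gorensteinRing_of_atPrime fun p hp => ?_
    by_cases ht : tee P ∈ p
    · have hle : RingHom.ker (lead P hK) ≤ p := by
        rw [ker_lead P hK hg, Ideal.span_le, Set.singleton_subset_iff]
        exact ht
      haveI := Ideal.map_isPrime_of_surjective (lead_surjective P hK) hle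
      have e : (p.map (lead P hK)).comap (lead P hK) = p := by
        rw [Ideal.comap_map_of_surjective _ (lead_surjective P hK), sup_eq_left]
        exact hle
      have h2 := (hq _ inferInstance).2 (gor_atPrime_of_irr hc' h (p.map (lead P hK)))
      exact (show ∀ (a : Ideal (sectRing (Finsupp.single P 1 : Divisor k K))) (_ : a.IsPrime), a = p →
          LocCoh.IsGorensteinLocalRing (Localization.AtPrime a) →
          LocCoh.IsGorensteinLocalRing (Localization.AtPrime p) from fun a _ hap hG => by subst hap; exact hG)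
        _ (Ideal.IsPrime.comap _) e h2
    · exact gor_atPrime_of_tee P hK hg p ht

end Groth.Agent.GrSect7
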