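import Groth.Agent.LC.GorRing
import Mathlib.RingTheory.Polynomial.Basic
import Groth.Prelude.Def_W4c6gradedringsgwSect

/-!
# Gorenstein numerical semigroup algebras and the symmetry of the semigroup
-/

set_option autoImplicit false
set_option linter.unusedSectionVars false
set_option linter.style.haveILetI false
set_option backward.isDefEq.respectTransparency false
set_option backward.isDefEq.respectTransparency.types false
set_option maxHeartbeats 1000000

universe u

open Polynomial IsLocalRing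

namespace Groth.Agent.GrSect7

/-- A local ring which is a Gorenstein ring is Gorenstein local. -/
theorem gorLocal_of_gorRing (L : Type u) [CommRing L] [IsLocalRing L] [LocCoh.IsGorensteinRing L] :
    LocCoh.IsGorensteinLocalRing L := by
  haveI := LocCoh.IsGorensteinRing.isGorensteinLocalRing_localization (A := L) (maximalIdeal L)
  exact LC.gorenstein_of_ringEquiv (IsLocalization.atUnits L (maximalIdeal L).primeCompl
    (S := Localization.AtPrime (maximalIdeal L)) fun x hx => notMem_maximalIdeal.1 hx).symm.toRingEquiv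

/-- Birational extensions do not change the local rings where the denominators are invertible. -/
theorem gor_atPrime_of_bir {A B : Type u} [CommRing A] [CommRing B] [LocCoh.IsGorensteinRing B]
    (ι : A →+* B) (hι : Function.Injective ι) (f : A)
    (hb : ∀ b : B, ∃ (n : ℕ) (a : A), ι a = ι f ^ n * b) (q : Ideal A) [q.IsPrime] (hf : f ∉ q) :
    LocCoh.IsGorensteinLocalRing (Localization.AtPrime q) := by
  classical
  let L := Localization.AtPrime q
  have hu : IsUnit (algebraMap A L f) := IsLocalization.map_units L (⟨f, hf⟩ : q.primeCompl)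
  choose N num hnum using hb
  -- `b ↦ num b / f ^ N b`
  let φ : B → L := fun b => algebraMap A L (num b) * ↑(hu.pow (N b)).unit⁻¹
  have hφ : ∀ (b : B) (m : ℕ) (a : A), ι a = ι f ^ m * b → algebraMap A L f ^ m * φ b = algebraMap A L a := by
    intro b m a h
    have e : num b * f ^ m = a * f ^ N b := hι (by
      rw [map_mul, map_mul, map_pow, map_pow, h, hnum]; ring)
    show algebraMap A L f ^ m * (algebraMap A L (num b) * ↑(hu.pow (N b)).unit⁻¹) = algebraMap A L a
    rw [← mul_assoc, mul_comm (algebraMap A L f ^ m), ← map_pow, ← map_mul, e, map_mul, mul_assoc, map_pow,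
      IsUnit.mul_val_inv, mul_one]
  have hcancel : ∀ (m : ℕ) {x y : L}, algebraMap A L f ^ m * x = algebraMap A L f ^ m * y → x = y :=
    fun m {x y} h => (hu.pow m).mul_left_cancel h
  let ψ : B →+* L :=
    { toFun := φ
      map_one' := hcancel 0 ((hφ 1 0 1 (by simp)).trans (by simp))
      map_mul' := fun b c => hcancel (N b + N c) (by
        rw [hφ _ _ (num b * num c) (by rw [map_mul, hnum, hnum]; ring), map_mul, ← hφ b _ _ (hnum b),
          ← hφ c _ _ (hnum c)]
        ring)
      map_zero' := hcancel 0 ((hφ 0 0 0 (by simp)).trans (by simp))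
      map_add' := fun b c => hcancel (N b + N c) (by
        rw [hφ _ _ (f ^ N c * num b + f ^ N b * num c)
          (by rw [map_add, map_mul, map_mul, map_pow, map_pow, hnum, hnum]; ring), map_add, map_mul, map_mul,
          map_pow, map_pow, ← hφ b _ _ (hnum b), ← hφ c _ _ (hnum c)]
        ring) }
  have hψ : ∀ a : A, ψ (ι a) = algebraMap A L a := fun a => by
    have := hφ (ι a) 0 a (by simp)
    rw [pow_zero, one_mul] at this
    exact this
  letI : Algebra B L := ψ.toAlgebra
  haveI : IsLocalization (q.primeCompl.map (ι : A →* B)) L :=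
    { map_units := by
        rintro ⟨_, s, hs, rfl⟩
        show IsUnit (ψ (ι s))
        rw [hψ]
        exact IsLocalization.map_units L (⟨s, hs⟩ : q.primeCompl)
      surj := fun z => by
        obtain ⟨⟨a, s⟩, h⟩ := IsLocalization.surj q.primeCompl z
        refine ⟨⟨ι a, ⟨ι s, s, s.2, rfl⟩⟩, ?_⟩
        show z * ψ (ι s) = ψ (ι a)
        rw [hψ, hψ, h]
      exists_of_eq := fun {b c} h => by
        have h' : algebraMap A L (f ^ N c * num b) = algebraMap A L (f ^ N b * num c) := by
          rw [map_mul, map_mul, map_pow, map_pow, ← hφ b _ _ (hnum b), ← hφ c _ _ (hnum c),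
            show φ b = φ c from h]
          ring
        obtain ⟨s, hs⟩ := IsLocalization.exists_of_eq (M := q.primeCompl) h'
        refine ⟨⟨ι ((s : A) * f ^ (N b + N c)), _, mul_mem s.2 (pow_mem (show f ∈ q.primeCompl from hf) _),
          rfl⟩, ?_⟩
        show ι ((s : A) * f ^ (N b + N c)) * b = ι ((s : A) * f ^ (N b + N c)) * c
        have := congrArg ι hs
        simp only [map_mul, map_pow, hnum] at this
        rw [map_mul, map_pow, pow_add]
        linear_combination this }
  haveI : LocCoh.IsGorensteinRing L := LC.gorensteinRing_of_isLocalization (q.primeCompl.map (ι : A →* B)) L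
  exact gorLocal_of_gorRing L

/-- The Gorenstein property of a localisation descends along a quotient by a regular element. -/
theorem gor_atPrime_iff_quot {R A : Type u} [CommRing R] [IsDomain R] [IsNoetherianRing R] [CommRing A]
    (π : R →+* A) (hπ : Function.Surjective π) {t : R} (ht : t ≠ 0) (hker : RingHom.ker π = Ideal.span {t})
    (q : Ideal A) [q.IsPrime] :
    LocCoh.IsGorensteinLocalRing (Localization.AtPrime (q.comap π)) ↔
      LocCoh.IsGorensteinLocalRing (Localization.AtPrime q) := by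
  let p := q.comap π
  haveI : IsNoetherianRing A := isNoetherianRing_of_surjective R A π hπ
  let L := Localization.AtPrime p
  let M := Localization.AtPrime q
  haveI : IsNoetherianRing L := IsLocalization.isNoetherianRing p.primeCompl L inferInstance
  haveI : IsNoetherianRing M := IsLocalization.isNoetherianRing q.primeCompl M inferInstance
  haveI : IsDomain L := IsLocalization.isDomain_localization (Ideal.primeCompl_le_nonZeroDivisors p)
  let σ : L →+* M := Localization.localRingHom p q π rfl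
  have hσ : ∀ r, σ (algebraMap R L r) = algebraMap A M (π r) := fun r =>
    Localization.localRingHom_to_map _ _ _ _ r
  have htp : t ∈ p := by
    show π t ∈ q
    rw [RingHom.mem_ker.1 (hker ▸ Ideal.mem_span_singleton_self t)]
    exact q.zero_mem
  have hinj : Function.Injective (algebraMap R L) :=
    IsLocalization.injective L (Ideal.primeCompl_le_nonZeroDivisors p)
  refine LC.gorenstein_iff_of_surjective σ ?_ (x := algebraMap R L t)
    ((IsLocalization.AtPrime.to_map_mem_maximal_iff L p t).2 htp) ?_ ?_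
  · intro z
    obtain ⟨⟨a, s⟩, h⟩ := IsLocalization.surj q.primeCompl z
    obtain ⟨a, rfl⟩ := hπ a
    obtain ⟨s', hs'⟩ := hπ s
    have hsp : s' ∈ p.primeCompl := fun hm => s.2 (hs' ▸ hm)
    refine ⟨IsLocalization.mk' L a ⟨s', hsp⟩,
      (IsLocalization.map_units M s).mul_right_cancel ?_⟩
    rw [h, ← hs', ← hσ s', ← map_mul, IsLocalization.mk'_spec, hσ]
  · intro x y h
    exact mul_left_cancel₀ (fun h0 => ht (hinj (h0.trans (map_zero _).symm))) h
  · refine le_antisymm (fun z hz => ?_) ?_
    · obtain ⟨⟨a, s⟩, h⟩ := IsLocalization.surj p.primeCompl z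
      have h0 : algebraMap A M (π a) = 0 := by
        rw [← hσ, ← h, map_mul, RingHom.mem_ker.1 hz, zero_mul]
      obtain ⟨u, hu⟩ := (IsLocalization.map_eq_zero_iff q.primeCompl M _).1 h0
      obtain ⟨u', hu'⟩ := hπ u
      have hmem : u' * a ∈ Ideal.span {t} := by
        rw [← hker, RingHom.mem_ker, map_mul, hu']
        exact hu
      have hunit : IsUnit (algebraMap R L (u' * (s : R))) := IsLocalization.map_units L
        (⟨u' * s, mul_mem (show u' ∈ p.primeCompl from fun hm => u.2 (hu' ▸ hm)) s.2⟩ : p.primeCompl)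
      have he : algebraMap R L (u' * s) * z = algebraMap R L (u' * a) := by
        rw [map_mul, map_mul, mul_assoc, mul_comm _ z, h]
      have := Ideal.mem_map_of_mem (algebraMap R L) hmem
      rw [← he, Ideal.map_span, Set.image_singleton, Ideal.unit_mul_mem_iff_mem _ hunit] at this
      exact this
    · have h0 : π t = 0 := RingHom.mem_ker.1 (hker ▸ Ideal.mem_span_singleton_self t)
      rw [Ideal.span_le, Set.singleton_subset_iff, SetLike.mem_coe, RingHom.mem_ker, hσ, h0, map_zero]

variable (k : Type u) [Field k] (H : AddSubmonoid ℕ)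

/-- The semigroup algebra as a subalgebra of `k[X]`. -/
def sgAlg : Subalgebra k k[X] where
  carrier := {p | ∀ n, n ∉ H → p.coeff n = 0}
  mul_mem' {p q} hp hq n hn := by
    rw [coeff_mul]
    refine Finset.sum_eq_zero fun x hx => ?_
    rw [Finset.HasAntidiagonal.mem_antidiagonal] at hx
    by_cases h1 : x.1 ∈ H
    · rw [hq x.2 fun h2 => hn (hx ▸ add_mem h1 h2), mul_zero]
    · rw [hp x.1 h1, zero_mul]
  add_mem' {p q} hp hq n hn := by rw [coeff_add, hp n hn, hq n hn, add_zero]
  algebraMap_mem' c n hn := by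
    rw [Polynomial.algebraMap_apply, coeff_C, if_neg]
    rintro rfl
    exact hn (zero_mem H)

variable {k H}

theorem mem_sgAlg {p : k[X]} : p ∈ sgAlg k H ↔ ∀ n, n ∉ H → p.coeff n = 0 := Iff.rfl

theorem monomial_mem {n : ℕ} (hn : n ∈ H) (a : k) : monomial n a ∈ sgAlg k H := fun m hm => by
  rw [coeff_monomial, if_neg]
  rintro rfl
  exact hm hn

/-- The monomial `X ^ n`. -/
noncomputable def mono {n : ℕ} (hn : n ∈ H) : sgAlg k H := ⟨monomial n 1, monomial_mem hn 1⟩

theorem mono_eq {n : ℕ} (hn : n ∈ H) : ((mono hn : sgAlg k H) : k[X]) = X ^ n :=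
  monomial_one_right_eq_X_pow n

/-- The monomials of small degree generate. -/
theorem adjoin_eq_top {c : ℕ} (hc : ∀ n, c ≤ n → n ∈ H) :
    Algebra.adjoin k {p : sgAlg k H | ∃ (n : ℕ) (hn : n ∈ H), n ≤ 2 * c + 1 ∧ p = mono hn} = ⊤ := by
  classical
  set S := Algebra.adjoin k {p : sgAlg k H | ∃ (n : ℕ) (hn : n ∈ H), n ≤ 2 * c + 1 ∧ p = mono hn}
  have hmono : ∀ (n : ℕ) (hn : n ∈ H), mono hn ∈ S := by
    intro n
    induction n using Nat.strong_induction_on with
    | _ n ih =>
      intro hn
      by_cases h : n ≤ 2 * c + 1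
      · exact Algebra.subset_adjoin ⟨n, hn, h, rfl⟩
      · have h1 : c + 1 ∈ H := hc _ (by omega)
        have h2 : n - (c + 1) ∈ H := hc _ (by omega)
        have e : (mono hn : sgAlg k H) = mono h1 * mono h2 := Subtype.ext (by
          rw [Subalgebra.coe_mul, mono_eq, mono_eq, mono_eq, ← pow_add, show c + 1 + (n - (c + 1)) = n by omega])
        rw [e]
        exact mul_mem (ih _ (by omega) h1) (ih _ (by omega) h2)
  refine eq_top_iff.2 fun p _ => ?_
  have e : p = ∑ n ∈ ((p : k[X]).support.attach),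
      (p : k[X]).coeff n.1 • mono (k := k) (H := H)
        (not_not.1 fun h => mem_support_iff.1 n.2 (p.2 n.1 h)) := Subtype.ext (by
    rw [AddSubmonoidClass.coe_finsetSum]
    conv_lhs => rw [as_sum_support (p : k[X]), ← Finset.sum_attach]
    refine Finset.sum_congr rfl fun n _ => ?_
    rw [Subalgebra.coe_smul]
    show _ = (p : k[X]).coeff n.1 • monomial n.1 (1 : k)
    rw [smul_monomial, smul_eq_mul, mul_one])
  rw [e]
  exact sum_mem fun n _ => Subalgebra.smul_mem _ (hmono _ _) _

theorem isNoetherianRing_sgAlg {c : ℕ} (hc : ∀ n, c ≤ n → n ∈ H) : IsNoetherianRing (sgAlg k H) := by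
  classical
  haveI : Algebra.FiniteType k (sgAlg k H) := by
    refine ⟨?_⟩
    rw [← adjoin_eq_top hc]
    refine Subalgebra.fg_def.2 ⟨_, ?_, rfl⟩
    refine ((Set.finite_Iic (2 * c + 1)).image fun n : ℕ =>
      if hn : n ∈ H then (mono hn : sgAlg k H) else 1).subset ?_
    rintro p ⟨n, hn, hle, rfl⟩
    exact ⟨n, hle, dif_pos hn⟩
  exact Algebra.FiniteType.isNoetherianRing k _

variable {e : ℕ} (he : e ∈ H)

/-- `w` is in the Apéry set or outside `H`. -/
def Low (H : AddSubmonoid ℕ) (e w : ℕ) : Prop := ∀ v ∈ H, v + e ≠ w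

theorem mem_span_mono_iff (p : sgAlg k H) :
    p ∈ Ideal.span {(mono he : sgAlg k H)} ↔ ∀ w, Low H e w → (p : k[X]).coeff w = 0 := by
  rw [Ideal.mem_span_singleton']
  constructor
  · rintro ⟨q, rfl⟩ w hw
    rw [Subalgebra.coe_mul, mono_eq, coeff_mul_X_pow']
    split_ifs with h
    · exact q.2 _ fun hm => hw _ hm (Nat.sub_add_cancel h)
    · rfl
  · intro hp
    have hlow : ∀ w, w < e → (p : k[X]).coeff w = 0 := fun w hw => hp w fun v _ hv => by omega
    obtain ⟨q, hq⟩ := X_pow_dvd_iff.2 hlow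
    have hqm : q ∈ sgAlg k H := fun v hv => by
      have : (p : k[X]).coeff (v + e) = q.coeff v := by rw [hq, coeff_X_pow_mul]
      rw [← this]
      exact hp _ fun v' hv' h' => hv (Nat.add_right_cancel h' ▸ hv')
    exact ⟨⟨q, hqm⟩, Subtype.ext (by rw [Subalgebra.coe_mul, mono_eq, hq, mul_comm])⟩

variable (k H) in
/-- The irrelevant ideal. -/
noncomputable def irrIdeal : Ideal (sgAlg k H) :=
  RingHom.ker ((constantCoeff).comp (sgAlg k H).val.toRingHom)

theorem mem_irrIdeal {p : sgAlg k H} : p ∈ irrIdeal k H ↔ (p : k[X]).coeff 0 = 0 := Iff.rfl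

instance irrIdeal_isMaximal : (irrIdeal k H).IsMaximal :=
  RingHom.ker_isMaximal_of_surjective _ fun a => ⟨algebraMap k _ a, by simp⟩

include he in
theorem pow_irrIdeal_le {c : ℕ} (hc : ∀ n, c ≤ n → n ∈ H) :
    irrIdeal k H ^ (c + e) ≤ Ideal.span {(mono he : sgAlg k H)} := by
  have h : ∀ (N : ℕ) (p : sgAlg k H), p ∈ irrIdeal k H ^ N → X ^ N ∣ (p : k[X]) := by
    intro N
    induction N with
    | zero => intro p _; simp
    | succ N ih =>
      intro p hp
      rw [pow_succ] at hp
      induction hp using Submodule.mul_induction_on' with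
      | mem_mul_mem a ha b hb =>
        rw [Subalgebra.coe_mul, pow_succ]
        exact mul_dvd_mul (ih a ha) (X_dvd_iff.2 (mem_irrIdeal.1 hb))
      | add a _ b _ ha hb => rw [Subalgebra.coe_add]; exact dvd_add ha hb
  intro p hp
  refine (mem_span_mono_iff he p).2 fun w hw => ?_
  refine X_pow_dvd_iff.1 (h _ p hp) w ?_
  by_contra hlt
  exact hw (w - e) (hc _ (by omega)) (by omega)

variable (he0 : 1 ≤ e)

/-- The quotient by a monomial. -/
abbrev Q (he : e ∈ H) : Type u := sgAlg k H ⧸ Ideal.span {(mono he : sgAlg k H)}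

include he0 in
theorem mono_mem_irr : (mono he : sgAlg k H) ∈ irrIdeal k H :=
  mem_irrIdeal.2 (by rw [mono_eq, coeff_X_pow, if_neg (by omega)])

include he0 in
theorem span_le_irr : Ideal.span {(mono he : sgAlg k H)} ≤ irrIdeal k H :=
  (Ideal.span_le.2 (Set.singleton_subset_iff.2 (mono_mem_irr he he0)))

/-- At a maximal ideal which is nilpotent modulo a regular element, Gorenstein means simple socle. -/
theorem gor_atMax_iff_socle {A B : Type u} [CommRing A] [IsDomain A] [IsNoetherianRing A] [CommRing B]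
    (π : A →+* B) (hπ : Function.Surjective π) {x : A} (hx : x ≠ 0) (hker : RingHom.ker π = Ideal.span {x})
    (m : Ideal A) [m.IsMaximal] (hxm : Ideal.span {x} ≤ m) {N : ℕ} (hN : m ^ N ≤ Ideal.span {x})
    (r : A) (hr : r ∉ Ideal.span {x}) (hrm : ∀ a ∈ m, a * r ∈ Ideal.span {x}) :
    LocCoh.IsGorensteinLocalRing (Localization.AtPrime m) ↔
      ∀ t : A, (∀ a ∈ m, a * t ∈ Ideal.span {x}) → ∃ a, t - a * r ∈ Ideal.span {x} := by
  classical
  haveI : IsNoetherianRing B := isNoetherianRing_of_surjective A B π hπ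
  haveI : Nontrivial B := ⟨π 1, π 0, fun h => by
    have h1 : (1 : A) ∈ Ideal.span {x} := by rw [← hker, RingHom.mem_ker, h, map_zero]
    exact ‹m.IsMaximal›.ne_top ((Ideal.eq_top_iff_one m).2 (hxm h1))⟩
  have hnil : IsNilpotent (m.map π) := ⟨N, by
    have h : (m ^ N).map π = ⊥ := (Ideal.map_eq_bot_iff_le_ker π).2 (hker ▸ hN)
    exact (Ideal.map_pow π m N).symm.trans h⟩
  have hunit : ∀ s : m.primeCompl, IsUnit (π s) := fun s => by
    by_contra hu
    obtain ⟨M, hM, hsM⟩ := exists_max_ideal_of_mem_nonunits (mem_nonunits_iff.2 hu)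
    obtain ⟨N, hN⟩ := hnil
    have hmM : m.map π ≤ M := fun a ha => hM.isPrime.mem_of_pow_mem N (by
      have h := Ideal.pow_mem_pow ha N
      rw [hN] at h
      rw [(show a ^ N = 0 from h)]
      exact M.zero_mem)
    have hMm : M.comap π = m := (‹m.IsMaximal›.eq_of_le (Ideal.IsPrime.comap π).ne_top
      (Ideal.map_le_iff_le_comap.1 hmM)).symm
    exact s.2 (hMm.le (show (s : A) ∈ M.comap π from hsM))
  let L := Localization.AtPrime m
  haveI : IsNoetherianRing L := IsLocalization.isNoetherianRing m.primeCompl L inferInstance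
  let ρ := IsLocalization.lift (M := m.primeCompl) (S := L) (P := (B)) (g := π) hunit
  have hρ : Function.Surjective ρ := fun z => by
    obtain ⟨a, rfl⟩ := hπ z
    exact ⟨algebraMap A L a, IsLocalization.lift_eq _ _⟩
  haveI : IsLocalRing (B) := IsLocalRing.of_surjective' ρ hρ
  have hmax : maximalIdeal (B) = m.map π := by
    refine ((Ideal.IsMaximal.eq_of_le (I := m.map π) ?_ (maximalIdeal.isMaximal _).ne_top
      (le_maximalIdeal ?_))).symm
    · exact (Ideal.map_eq_top_or_isMaximal_of_surjective π hπ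
        ‹m.IsMaximal›).resolve_left (fun h => by
          obtain ⟨N, hN⟩ := hnil
          rw [h, Ideal.top_pow] at hN
          exact top_ne_bot hN)
    · intro h
      obtain ⟨N, hN⟩ := hnil
      rw [h, Ideal.top_pow] at hN
      exact top_ne_bot hN
  have hsocle : ∀ t : A, (∀ b ∈ maximalIdeal (B), b * π t = 0) ↔
      ∀ a ∈ m, a * t ∈ Ideal.span {x} := fun t => by
    rw [hmax]
    constructor
    · intro h a ha
      rw [← hker, RingHom.mem_ker, map_mul]
      exact h _ (Ideal.mem_map_of_mem π ha)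
    · intro h b hb
      obtain ⟨a, ha, rfl⟩ := (Ideal.mem_map_iff_of_surjective π hπ).1 hb
      rw [← map_mul, ← RingHom.mem_ker, hker]
      exact h a ha
  have hspan : ∀ t : A, (∃ b, π t = b * π r) ↔ ∃ a, t - a * r ∈ Ideal.span {x} := fun t => by
    constructor
    · rintro ⟨b, hb⟩
      obtain ⟨a, rfl⟩ := hπ b
      exact ⟨a, by rw [← hker, RingHom.mem_ker, map_sub, map_mul, hb, sub_self]⟩
    · rintro ⟨a, ha⟩
      rw [← hker, RingHom.mem_ker, map_sub, map_mul, sub_eq_zero] at ha
      exact ⟨π a, ha⟩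
  have hxL : algebraMap A L x ≠ 0 := fun h => by
    have h0 : x = 0 := IsLocalization.injective L (Ideal.primeCompl_le_nonZeroDivisors m)
      (h.trans (map_zero _).symm)
    exact hx h0
  haveI : IsDomain L := IsLocalization.isDomain_localization (Ideal.primeCompl_le_nonZeroDivisors m)
  rw [LC.gorenstein_iff_of_surjective ρ hρ (x := algebraMap A L x)
    ((IsLocalization.AtPrime.to_map_mem_maximal_iff L m x).2 (hxm (Ideal.mem_span_singleton_self x)))
    (fun a b h => mul_left_cancel₀ hxL h) ?_]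
  · have hr0 : π r ≠ 0 := fun h => hr (hker ▸ RingHom.mem_ker.2 h)
    constructor
    · intro hG t ht
      exact (hspan t).1 ((LC.socle_of_gorenstein hr0 ((hsocle r).2 hrm)).2 _ ((hsocle t).2 ht))
    · intro h
      refine LC.gorenstein_of_socle (hmax ▸ hnil) hr0 ((hsocle r).2 hrm) fun t ht => ?_
      obtain ⟨t, rfl⟩ := hπ t
      exact (hspan t).2 (h t ((hsocle t).1 ht))
  · refine le_antisymm (fun z hz => ?_) ?_
    · obtain ⟨⟨a, s⟩, h⟩ := IsLocalization.surj m.primeCompl z
      have ha : π a = 0 := by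
        rw [← IsLocalization.lift_eq (M := m.primeCompl) (S := L) hunit a, ← h, map_mul,
          RingHom.mem_ker.1 hz, zero_mul]
      have := Ideal.mem_map_of_mem (algebraMap A L) (show a ∈ Ideal.span {x} from hker ▸ RingHom.mem_ker.2 ha)
      rw [← h, Ideal.map_span, Set.image_singleton,
        Ideal.mul_unit_mem_iff_mem _ (IsLocalization.map_units L s)] at this
      exact this
    · rw [Ideal.span_le, Set.singleton_subset_iff, SetLike.mem_coe, RingHom.mem_ker]
      exact (IsLocalization.lift_eq _ x).trans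
        (RingHom.mem_ker.1 (hker ▸ Ideal.mem_span_singleton_self x))

/-- The previous criterion with the quotient ring filled in. -/
theorem gor_atMax_iff_socle' {A : Type u} [CommRing A] [IsDomain A] [IsNoetherianRing A] {x : A} (hx : x ≠ 0)
    (m : Ideal A) [m.IsMaximal] (hxm : Ideal.span {x} ≤ m) {N : ℕ} (hN : m ^ N ≤ Ideal.span {x})
    (r : A) (hr : r ∉ Ideal.span {x}) (hrm : ∀ a ∈ m, a * r ∈ Ideal.span {x}) :
    LocCoh.IsGorensteinLocalRing (Localization.AtPrime m) ↔
      ∀ t : A, (∀ a ∈ m, a * t ∈ Ideal.span {x}) → ∃ a, t - a * r ∈ Ideal.span {x} :=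
  gor_atMax_iff_socle (Ideal.Quotient.mk (Ideal.span {x})) Ideal.Quotient.mk_surjective hx Ideal.mk_ker m hxm hN
    r hr hrm

/-- The local ring at the origin is Gorenstein iff the socle modulo a monomial is simple. -/
theorem gor_irr_iff {c : ℕ} (hc : ∀ n, c ≤ n → n ∈ H) (he : e ∈ H) (he0 : 1 ≤ e)
    (r : sgAlg k H) (hr : r ∉ Ideal.span {(mono he : sgAlg k H)})
    (hrm : ∀ a ∈ irrIdeal k H, a * r ∈ Ideal.span {(mono he : sgAlg k H)}) :
    LocCoh.IsGorensteinLocalRing (Localization.AtPrime (irrIdeal k H)) ↔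
      ∀ t : sgAlg k H, (∀ a ∈ irrIdeal k H, a * t ∈ Ideal.span {(mono he : sgAlg k H)}) →
        ∃ a, t - a * r ∈ Ideal.span {(mono he : sgAlg k H)} := by
  haveI : IsNoetherianRing (sgAlg k H) := isNoetherianRing_sgAlg hc
  refine gor_atMax_iff_socle' (fun h => ?_) (irrIdeal k H) (span_le_irr he he0) (pow_irrIdeal_le he hc) r hr hrm
  have h1 : ((mono he : sgAlg k H) : k[X]) = 0 := by rw [h]; rfl
  rw [mono_eq] at h1
  exact pow_ne_zero _ X_ne_zero h1

/-- Away from the origin the semigroup algebra is regular; at the origin see `gor_irr_iff`. -/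
theorem gor_atPrime_of_irr {c : ℕ} (hc : ∀ n, c ≤ n → n ∈ H)
    (h : LocCoh.IsGorensteinLocalRing (Localization.AtPrime (irrIdeal k H)))
    (q : Ideal (sgAlg k H)) [hq : q.IsPrime] : LocCoh.IsGorensteinLocalRing (Localization.AtPrime q) := by
  by_cases h1 : irrIdeal k H ≤ q
  · obtain rfl := irrIdeal_isMaximal.eq_of_le hq.ne_top h1
    exact h
  · obtain ⟨a, ha, haq⟩ := SetLike.not_le_iff_exists.1 h1
    haveI : LocCoh.IsGorensteinRing k[X] := LC.gorensteinRing_of_isRegularRing _
    refine gor_atPrime_of_bir (sgAlg k H).val.toRingHom Subtype.val_injective a (fun b => ?_) q haq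
    have hd : X ^ c ∣ (a : k[X]) ^ c := pow_dvd_pow_of_dvd (X_dvd_iff.2 (mem_irrIdeal.1 ha)) c
    refine ⟨c, ⟨(a : k[X]) ^ c * b, fun n hn => ?_⟩, rfl⟩
    exact X_pow_dvd_iff.1 (hd.mul_right b) n (lt_of_not_ge fun h => hn (hc n h))

theorem exists_frobenius {c : ℕ} (hc : ∀ n, c ≤ n → n ∈ H) :
    ∃ F : ℤ, (¬ ∃ h ∈ (H : Set ℕ), (h : ℤ) = F) ∧ ∀ z : ℤ, F < z → ∃ h ∈ (H : Set ℕ), (h : ℤ) = z := by
  classical
  obtain ⟨F, hF, hmax⟩ := Int.exists_greatest_of_bdd
    (P := fun z : ℤ => ¬ ∃ h ∈ (H : Set ℕ), (h : ℤ) = z)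
    ⟨c, fun z hz => by
      by_contra hlt
      exact hz ⟨z.toNat, hc _ (by omega), by omega⟩⟩
    ⟨-1, fun ⟨h, _, hh⟩ => by omega⟩
  exact ⟨F, hF, fun z hz => by
    by_contra h
    exact absurd (hmax z h) (not_le.2 hz)⟩

theorem mul_mem_span_of {r : sgAlg k H} {w : ℕ}
    (hr : ∀ j, Low H e j → j ≠ w → (r : k[X]).coeff j = 0)
    (hw : ∀ n ∈ H, n ≠ 0 → ∃ v ∈ H, v + e = w + n) :
    ∀ a ∈ irrIdeal k H, a * r ∈ Ideal.span {(mono he : sgAlg k H)} := by
  intro a ha
  refine (mem_span_mono_iff he _).2 fun j hj => ?_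
  rw [Subalgebra.coe_mul, coeff_mul]
  refine Finset.sum_eq_zero fun x hx => ?_
  rw [Finset.HasAntidiagonal.mem_antidiagonal] at hx
  by_cases h1 : x.1 ∈ H
  · rcases Nat.eq_zero_or_pos x.1 with h0 | h0
    · rw [h0, mem_irrIdeal.1 ha, zero_mul]
    · have hl : Low H e x.2 := fun v hv he' => hj (x.1 + v) (add_mem h1 hv) (by omega)
      by_cases h2 : x.2 = w
      · obtain ⟨v, hv, hv'⟩ := hw x.1 h1 (by omega)
        exact absurd (show v + e = j by omega) (hj v hv)
      · rw [hr _ hl h2, mul_zero]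
  · rw [a.2 _ h1, zero_mul]

/-- The symmetry criterion at the origin. -/
theorem gor_irr_iff_symmetric {c : ℕ} (hc : ∀ n, c ≤ n → n ∈ H) :
    LocCoh.IsGorensteinLocalRing (Localization.AtPrime (irrIdeal k H)) ↔
      W4c6gradedringsgw.IsSymmetric (H : Set ℕ) := by
  classical
  let e := c + 1
  have he : e ∈ H := hc e (by omega)
  obtain ⟨F, hF, hgt⟩ := exists_frobenius (H := H) hc
  have hFlow : -1 ≤ F := by
    by_contra h
    obtain ⟨v, -, hv⟩ := hgt (-1) (by omega)
    omega
  have hFc : F < c := by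
    by_contra h
    exact hF ⟨F.toNat, hc _ (by omega), by omega⟩
  -- pseudo-Frobenius elements give socle monomials
  have hpf : ∀ z : ℤ, (¬ ∃ h ∈ (H : Set ℕ), (h : ℤ) = z) → -1 ≤ z →
      (∀ n ∈ H, n ≠ 0 → ∃ h ∈ (H : Set ℕ), (h : ℤ) = z + n) →
      (z + e).toNat ∈ H ∧ Low H e (z + e).toNat ∧
        ∀ n ∈ H, n ≠ 0 → ∃ v ∈ H, v + e = (z + e).toNat + n := by
    intro z hz hz1 hzn
    refine ⟨?_, fun v hv hv' => hz ⟨v, hv, by omega⟩, fun n hn hn0 => ?_⟩
    · obtain ⟨v, hv, hv'⟩ := hzn e he (by omega)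
      convert (show v ∈ H from hv) using 1
      omega
    · obtain ⟨v, hv, hv'⟩ := hzn n hn hn0
      exact ⟨v, hv, by omega⟩
  obtain ⟨hw, hwlow, hwn⟩ := hpf F hF hFlow fun n _ hn => hgt _ (by omega)
  set w := (F + e).toNat with hwdef
  let r : sgAlg k H := mono hw
  have hr : r ∉ Ideal.span {(mono he : sgAlg k H)} := fun h => by
    have := (mem_span_mono_iff he r).1 h w hwlow
    rw [mono_eq, coeff_X_pow, if_pos rfl] at this
    exact one_ne_zero this
  have hrm := mul_mem_span_of (k := k) he (r := r) (w := w)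
    (fun j _ hj => by rw [mono_eq, coeff_X_pow, if_neg hj]) hwn
  rw [gor_irr_iff hc he (by omega) r hr hrm]
  constructor
  · intro hsoc
    refine ⟨F, fun z => ⟨?_, fun hz => ?_⟩⟩
    · rintro ⟨a, ha, rfl⟩ ⟨b, hb, hb'⟩
      exact hF ⟨a + b, H.add_mem ha hb, by omega⟩
    · by_contra hzH
      -- the maximal translate of `z` outside `H`
      obtain ⟨N, ⟨n, hn, rfl, hnz⟩, hmax⟩ := Int.exists_greatest_of_bdd
        (P := fun N : ℤ => ∃ n ∈ (H : Set ℕ), (n : ℤ) = N ∧ ¬ ∃ h ∈ (H : Set ℕ), (h : ℤ) = z + n)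
        ⟨F - z, fun N ⟨n, _, hnN, hn⟩ => by
          by_contra hlt
          exact hn (hgt _ (by omega))⟩
        ⟨0, 0, zero_mem H, rfl, by simpa using hzH⟩
      have hzn : ∀ m ∈ H, m ≠ 0 → ∃ h ∈ (H : Set ℕ), (h : ℤ) = z + n + m := by
        intro m hm hm0
        by_contra hcon
        have h := hmax ((n + m : ℕ) : ℤ) ⟨n + m, H.add_mem hn hm, rfl, by simpa [add_assoc] using hcon⟩
        omega
      have hlow' : -1 ≤ z + n := by
        by_contra hlt
        obtain ⟨j, hj⟩ : ∃ j : ℕ, z + n = -(j : ℤ) := ⟨(-(z + n)).toNat, by omega⟩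
        have hdvd : ∀ m, m ∈ H → j ∣ m := by
          intro m
          induction m using Nat.strong_induction_on with
          | _ m ih =>
            intro hm
            by_cases hm0 : m = 0
            · simp [hm0]
            obtain ⟨v, hv, hv'⟩ := hzn m hm hm0
            rw [show m = v + j by omega]
            exact dvd_add (ih v (by omega) hv) dvd_rfl
        have h1 := (Nat.dvd_add_right (hdvd c (hc c le_rfl))).1 (hdvd (c + 1) he)
        have := Nat.eq_one_of_dvd_one h1
        omega
      obtain ⟨hw', hwlow', hwn'⟩ := hpf (z + n) hnz hlow' hzn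
      set w' := (z + n + e).toNat with hw'def
      obtain ⟨a, ha⟩ := hsoc (mono hw') (mul_mem_span_of (k := k) he (w := w')
        (fun j _ hj => by rw [mono_eq, coeff_X_pow, if_neg hj]) hwn')
      have hco := (mem_span_mono_iff he _).1 ha w' hwlow'
      rw [Subalgebra.coe_sub, Subalgebra.coe_mul, mono_eq, mono_eq, coeff_sub, coeff_X_pow, if_pos rfl,
        coeff_mul_X_pow', sub_eq_zero] at hco
      by_cases hww : w = w'
      · exact hz ⟨n, hn, by omega⟩
      · split_ifs at hco with hle
        · rw [Eq.comm] at hco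
          refine one_ne_zero (hco.symm.trans (a.2 _ fun hmem => ?_))
          obtain ⟨v, hv, hv'⟩ := hwn (w' - w) hmem (by omega)
          exact hwlow' v hv (by omega)
        · exact one_ne_zero hco
  · rintro ⟨d, hd⟩ t ht
    -- `d` is the Frobenius number
    have hdF : d = F := by
      have h0 : ¬ ∃ h ∈ (H : Set ℕ), (h : ℤ) = d := by
        simpa using (hd 0).1 ⟨0, zero_mem H, rfl⟩
      rcases lt_trichotomy d F with hlt | heq | hlt
      · have := (not_congr (hd F)).1 hF
        push Not at this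
        obtain ⟨h, _, hh⟩ := this
        omega
      · exact heq
      · exact absurd (hgt d hlt) h0
    subst hdF
    refine ⟨algebraMap k _ ((t : k[X]).coeff w), (mem_span_mono_iff he _).2 fun j hj => ?_⟩
    rw [Subalgebra.coe_sub, Subalgebra.coe_mul, mono_eq, Subalgebra.coe_algebraMap,
      Polynomial.algebraMap_apply, coeff_sub, coeff_C_mul_X_pow]
    split_ifs with hjw
    · subst hjw; exact sub_self _
    · rw [sub_zero]
      by_cases hjH : j ∈ H
      swap
      · exact t.2 j hjH
      -- `j + (d + e - j)` is the socle degree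
      have h1 : ¬ ∃ h ∈ (H : Set ℕ), (h : ℤ) = (j : ℤ) - e := fun ⟨v, hv, hv'⟩ =>
        hj v hv (by omega)
      have h2 := (not_congr (hd _)).1 h1
      rw [not_not] at h2
      obtain ⟨m, hm, hm'⟩ := h2
      have hm0 : m ≠ 0 := by omega
      have h3 := (mem_span_mono_iff he _).1 (ht (mono hm) (mem_irrIdeal.2 (by
        rw [mono_eq, coeff_X_pow, if_neg (Ne.symm hm0)]))) w hwlow
      rw [Subalgebra.coe_mul, mono_eq, coeff_X_pow_mul'] at h3
      rw [if_pos (by omega), show w - m = j by omega] at h3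
      exact h3

end Groth.Agent.GrSect7
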